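import Mathlib.RingTheory.Regular.RegularSequence
import Mathlib.RingTheory.Regular.Flat
import Mathlib.RingTheory.MvPolynomial.Homogeneous
import Mathlib.RingTheory.MvPolynomial.Ideal
import Mathlib.RingTheory.Localization.Away.Basic
import Mathlib.Algebra.MvPolynomial.Equiv
import Mathlib.RingTheory.Polynomial.Basic

/-!
# Regular sequences are of linear type
-/

set_option autoImplicit false

universe u

open RingTheory.Sequence MvPolynomial
open scoped Pointwise

namespace Groth.Agent.H4Rees

variable {A : Type u} [CommRing A]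

theorem split_regular {n : ℕ} {a : Fin (n + 1) → A} (h : IsWeaklyRegular A (List.ofFn a)) :
    IsWeaklyRegular A (List.ofFn (a ∘ Fin.castSucc)) ∧
      ∀ x, a (Fin.last n) * x ∈ Ideal.span (Set.range (a ∘ Fin.castSucc)) → x ∈ Ideal.span (Set.range (a ∘ Fin.castSucc)) := by
  rw [List.ofFn_succ', List.concat_eq_append, isWeaklyRegular_append_iff] at h
  refine ⟨h.1, fun x hx => ?_⟩
  have hI : (Ideal.ofList (List.ofFn (a ∘ Fin.castSucc)) • (⊤ : Submodule A A)) = Ideal.span (Set.range (a ∘ Fin.castSucc)) := by
    rw [smul_eq_mul, Ideal.mul_top]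
    exact congrArg Ideal.span (Set.ext fun y => List.mem_ofFn)
  have h2 := (isWeaklyRegular_singleton_iff _ _).1 h.2
  rw [isSMulRegular_quotient_iff_mem_of_smul_mem, show (List.ofFn fun i => a i.castSucc) = List.ofFn (a ∘ Fin.castSucc) from rfl,
    hI] at h2
  exact h2 x hx

/-- Syzygies of a weakly regular sequence are Koszul. -/
theorem syz_trivial : ∀ {n : ℕ} (a h : Fin n → A), IsWeaklyRegular A (List.ofFn a) → ∑ i, h i * a i = 0 →
    ∃ s : Fin n → Fin n → A, (∀ i, s i i = 0) ∧ (∀ i j, s i j = -s j i) ∧ ∀ i, h i = ∑ j, s i j * a j := by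
  intro n
  induction n with
  | zero => exact fun _ _ _ _ => ⟨fun i => i.elim0, fun i => i.elim0, fun i => i.elim0, fun i => i.elim0⟩
  | succ n ih =>
    intro a h hreg hsum
    obtain ⟨hreg', hlast⟩ := split_regular hreg
    rw [Fin.sum_univ_castSucc] at hsum
    have hmem : h (Fin.last n) ∈ Ideal.span (Set.range (a ∘ Fin.castSucc)) := hlast _ (by
      rw [mul_comm, eq_neg_of_add_eq_zero_right hsum]
      exact (Ideal.neg_mem_iff _).2 (Ideal.sum_mem _ fun i _ => Ideal.mul_mem_left _ _ (Ideal.subset_span ⟨i, rfl⟩)))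
    obtain ⟨c, hc⟩ := Ideal.mem_span_range_iff_exists_fun.1 hmem
    obtain ⟨s, hs0, hs, hh⟩ := ih (a ∘ Fin.castSucc) (fun i => h i.castSucc + c i * a (Fin.last n)) hreg' (by
      simp only [add_mul, Finset.sum_add_distrib, Function.comp_apply] at hc ⊢
      rw [← hc, Finset.sum_mul] at hsum
      rw [show ∑ i, c i * a (Fin.last n) * a i.castSucc = ∑ i, c i * a i.castSucc * a (Fin.last n) from
        Finset.sum_congr rfl fun i _ => mul_right_comm _ _ _]
      exact hsum)
    refine ⟨Fin.lastCases (Fin.lastCases 0 c) (fun i => Fin.lastCases (-c i) (s i)), ?_, ?_, ?_⟩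
    · intro i
      cases i using Fin.lastCases with
      | last => simp
      | cast i => simp [hs0]
    · intro i j
      cases i using Fin.lastCases with
      | last =>
        cases j using Fin.lastCases with
        | last => simp
        | cast j => simp
      | cast i =>
        cases j using Fin.lastCases with
        | last => simp
        | cast j => simpa using hs i j
    · intro i
      rw [Fin.sum_univ_castSucc]
      cases i using Fin.lastCases with
      | last => simpa using hc.symm
      | cast i =>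
        simp only [Fin.lastCases_castSucc, Fin.lastCases_last, neg_mul]
        have h1 : h i.castSucc + c i * a (Fin.last n) = ∑ j, s i j * a j.castSucc := hh i
        rw [← h1, add_neg_cancel_right]

/-- **Affine chart of the Rees algebra.** -/
theorem ker_chart {n : ℕ} (a : Fin (n + 1) → A) (ha : IsWeaklyRegular A (List.ofFn a)) :
    RingHom.ker (MvPolynomial.aeval (R := A) (S₁ := Localization.Away (a 0))
      (fun i : Fin n => IsLocalization.mk' (Localization.Away (a 0)) (a i.succ)
        (⟨a 0, Submonoid.mem_powers (a 0)⟩ : Submonoid.powers (a 0)))) =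
      Ideal.span (Set.range fun i : Fin n => C (a 0) * X i - C (a i.succ)) := by
  set S := Localization.Away (a 0)
  set v : Fin n → S := fun i => IsLocalization.mk' S (a i.succ) (⟨a 0, Submonoid.mem_powers (a 0)⟩ : Submonoid.powers (a 0))
  set g : Fin n → MvPolynomial (Fin n) A := fun i => C (a 0) * X i - C (a i.succ)
  have hgker : ∀ i, aeval v (g i) = 0 := fun i => by
    simp only [g, map_sub, map_mul, aeval_C, aeval_X, v]
    exact sub_eq_zero.2 (IsLocalization.mk'_spec' S (a i.succ) (⟨a 0, Submonoid.mem_powers (a 0)⟩ : Submonoid.powers (a 0)))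
  refine le_antisymm (fun f hf => ?_) (Ideal.span_le.2 (by rintro _ ⟨i, rfl⟩; exact hgker i))
  rw [RingHom.mem_ker] at hf
  rw [List.ofFn_succ] at ha
  obtain ⟨h0, hrest⟩ := (isWeaklyRegular_cons_iff _ _ _).1 ha
  have h0' : IsSMulRegular (MvPolynomial (Fin n) A) (C (a 0) : MvPolynomial (Fin n) A) := by
    rw [isSMulRegular_iff_right_eq_zero_of_smul]
    intro x hx
    ext m
    rw [smul_eq_mul] at hx
    have h1 := congrArg (coeff m) hx
    rw [coeff_C_mul, coeff_zero] at h1
    rw [coeff_zero]
    exact h0.right_eq_zero_of_smul h1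
  -- a₀ is regular modulo the relations
  have hsat : ∀ x, C (a 0) * x ∈ Ideal.span (Set.range g) → x ∈ Ideal.span (Set.range g) := by
    intro x hx
    obtain ⟨h, hh⟩ := Ideal.mem_span_range_iff_exists_fun.1 hx
    let Q := MvPolynomial (Fin n) A ⧸ Ideal.span {(C (a 0) : MvPolynomial (Fin n) A)}
    let π : MvPolynomial (Fin n) A →+* Q := Ideal.Quotient.mk _
    have hQ : IsWeaklyRegular Q (List.ofFn fun i : Fin n => π (C (a i.succ))) := by
      have h1 : IsWeaklyRegular (MvPolynomial (Fin n) A) ((a 0 :: List.ofFn fun i : Fin n => a i.succ).map (algebraMap A (MvPolynomial (Fin n) A))) :=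
        ha.of_flat
      rw [List.map_cons, isWeaklyRegular_cons_iff] at h1
      have e : QuotSMulTop (algebraMap A (MvPolynomial (Fin n) A) (a 0)) (MvPolynomial (Fin n) A) ≃ₗ[MvPolynomial (Fin n) A] Q :=
        Submodule.quotEquivOfEq _ _ (by
          rw [← Submodule.ideal_span_singleton_smul, smul_eq_mul, Ideal.mul_top]; rfl)
      have h2 := (isWeaklyRegular_map_algebraMap_iff Q Q _).2 ((LinearEquiv.isWeaklyRegular_congr e _).1 h1.2)
      rw [List.map_ofFn, List.map_ofFn] at h2
      exact h2
    obtain ⟨s, hs0, hs, hsy⟩ := syz_trivial (fun i : Fin n => π (C (a i.succ))) (fun i => -π (h i)) hQ (by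
      have h1 := congrArg π hh
      rw [map_sum, map_mul, show π (C (a 0)) = 0 from Ideal.Quotient.eq_zero_iff_mem.2 (Ideal.mem_span_singleton_self _),
        zero_mul] at h1
      refine Eq.trans (Finset.sum_congr rfl fun i _ => ?_) h1
      simp only [g, map_mul, map_sub, show π (C (a 0)) = 0 from Ideal.Quotient.eq_zero_iff_mem.2 (Ideal.mem_span_singleton_self _)]
      ring)
    -- lift the alternating matrix
    choose s' hs' using fun i j => Ideal.Quotient.mk_surjective (s i j)
    let σ : Fin n → Fin n → MvPolynomial (Fin n) A := fun i j => if i < j then s' i j else if j < i then -s' j i else 0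
    have hσ : ∀ i j, σ i j = -σ j i := fun i j => by
      simp only [σ]
      rcases lt_trichotomy i j with h | rfl | h
      · simp [h, h.not_gt]
      · simp
      · simp [h, h.not_gt]
    have hσ0 : ∀ i, σ i i = 0 := fun i => by simp [σ]
    have hσπ : ∀ i j, π (σ i j) = s i j := fun i j => by
      simp only [σ]
      rcases lt_trichotomy i j with h | rfl | h
      · simp [h, π, hs']
      · simp [hs0]
      · simp only [h.not_gt, if_false, h, if_true, map_neg]
        rw [show π (s' j i) = s j i from hs' j i, ← hs i j]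
    have hu : ∀ i, ∃ u, -h i = ∑ j, σ i j * C (a j.succ) + C (a 0) * u := fun i => by
      have h1 : π (-h i - ∑ j, σ i j * C (a j.succ)) = 0 := by
        rw [map_sub, map_neg, map_sum, hsy i, sub_eq_zero]
        exact Finset.sum_congr rfl fun j _ => by rw [map_mul, hσπ]
      obtain ⟨u, hu⟩ := Ideal.mem_span_singleton'.1 (Ideal.Quotient.eq_zero_iff_mem.1 h1)
      exact ⟨u, by rw [mul_comm (C (a 0)), hu]; ring⟩
    choose u hu using hu
    have halt : ∀ B : Fin n → Fin n → MvPolynomial (Fin n) A, (∀ i, B i i = 0) → (∀ i j, B i j = -B j i) →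
        ∑ i, ∑ j, B i j = 0 := fun B h0 hB => by
      rw [← Finset.sum_product']
      exact Finset.sum_involution (fun p _ => (p.2, p.1)) (fun p _ => by rw [hB p.1 p.2, neg_add_cancel])
        (fun p _ hp heq => hp (by rw [show p.1 = p.2 from (congrArg Prod.fst heq).symm]; exact h0 _))
        (fun p _ => Finset.mem_univ _) (fun p _ => rfl)
    have key : C (a 0) * (x - ∑ j, (∑ i, σ i j * X i) * g j + ∑ i, u i * g i) = 0 := by
      have h1 : ∀ i, h i * g i = -(C (a 0) * ∑ j, σ i j * C (a j.succ) * X i) +
          ∑ j, σ i j * C (a j.succ) * C (a i.succ) - C (a 0) * (u i * g i) := fun i => by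
        rw [show h i = -(∑ j, σ i j * C (a j.succ) + C (a 0) * u i) by rw [← hu i, neg_neg]]
        simp only [g, ← Finset.sum_mul]
        ring
      have h2 : ∑ i, ∑ j, σ i j * C (a j.succ) * C (a i.succ) = 0 :=
        halt _ (fun i => by rw [hσ0, zero_mul, zero_mul]) fun i j => by rw [hσ i j]; ring
      have h3 : ∑ i, ∑ j, σ i j * X j * X i = 0 :=
        halt _ (fun i => by rw [hσ0, zero_mul, zero_mul]) fun i j => by rw [hσ i j]; ring
      have h4 : ∑ j, (∑ i, σ i j * X i) * g j =
          C (a 0) * ∑ i, ∑ j, σ i j * X j * X i - ∑ i, ∑ j, σ i j * C (a j.succ) * X i := by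
        rw [Finset.mul_sum, ← Finset.sum_sub_distrib]
        simp only [Finset.sum_mul, g]
        rw [Finset.sum_comm]
        refine Finset.sum_congr rfl fun i _ => ?_
        rw [Finset.mul_sum, ← Finset.sum_sub_distrib]
        exact Finset.sum_congr rfl fun j _ => by ring
      rw [h4, h3, mul_zero, zero_sub, sub_neg_eq_add, mul_add, mul_add, ← hh, Finset.sum_congr rfl fun i _ => h1 i,
        Finset.sum_sub_distrib, Finset.sum_add_distrib, h2, Finset.sum_neg_distrib, Finset.mul_sum Finset.univ (fun i => u i * g i),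
        Finset.mul_sum Finset.univ (fun i => ∑ j, σ i j * C (a j.succ) * X i)]
      ring
    have hx' := sub_eq_zero.1 ((show x - (∑ j, (∑ i, σ i j * X i) * g j - ∑ i, u i * g i) =
      x - ∑ j, (∑ i, σ i j * X i) * g j + ∑ i, u i * g i by ring).trans (h0'.right_eq_zero_of_smul key))
    rw [hx']
    exact Ideal.sub_mem _ (Ideal.sum_mem _ fun j _ => Ideal.mul_mem_left _ _ (Ideal.subset_span ⟨j, rfl⟩))
      (Ideal.sum_mem _ fun j _ => Ideal.mul_mem_left _ _ (Ideal.subset_span ⟨j, rfl⟩))
  -- clearing denominators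
  have hred : ∀ p : MvPolynomial (Fin n) A, ∃ N c, C (a 0 ^ N) * p - C c ∈ Ideal.span (Set.range g) := fun p => by
    induction p using MvPolynomial.induction_on with
    | C c => exact ⟨0, c, by simp⟩
    | add p q hp hq =>
      obtain ⟨N, c, hp⟩ := hp
      obtain ⟨M, d, hq⟩ := hq
      refine ⟨N + M, a 0 ^ M * c + a 0 ^ N * d, ?_⟩
      have := Ideal.add_mem _ (Ideal.mul_mem_left _ (C (a 0 ^ M)) hp) (Ideal.mul_mem_left _ (C (a 0 ^ N)) hq)
      convert this using 1
      simp only [map_add, map_mul, pow_add]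
      ring
    | mul_X p i hp =>
      obtain ⟨N, c, hp⟩ := hp
      refine ⟨N + 1, c * a i.succ, ?_⟩
      have := Ideal.add_mem _ (Ideal.mul_mem_left _ (C (a 0) * X i) hp)
        (Ideal.mul_mem_left _ (C c) (show g i ∈ Ideal.span (Set.range g) from Ideal.subset_span ⟨i, rfl⟩))
      convert this using 1
      simp only [g, map_mul, pow_succ]
      ring
  obtain ⟨N, c, hN⟩ := hred f
  have hc : algebraMap A S c = 0 := by
    have hle : Ideal.span (Set.range g) ≤ RingHom.ker (aeval v) := Ideal.span_le.2 (by rintro _ ⟨i, rfl⟩; exact hgker i)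
    have h1 := hle hN
    rw [RingHom.mem_ker, map_sub, map_mul, hf, mul_zero, aeval_C, zero_sub, neg_eq_zero] at h1
    exact h1
  obtain ⟨⟨_, m, rfl⟩, hm⟩ := (IsLocalization.map_eq_zero_iff (Submonoid.powers (a 0)) S c).1 hc
  have hc0 : c = 0 := (h0.pow m).right_eq_zero_of_smul hm
  rw [hc0, map_zero, sub_zero] at hN
  have hpow : ∀ (N : ℕ) (x : MvPolynomial (Fin n) A), C (a 0 ^ N) * x ∈ Ideal.span (Set.range g) → x ∈ Ideal.span (Set.range g) := by
    intro N
    induction N with
    | zero => intro x hx; simpa using hx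
    | succ N ihN =>
      intro x hx
      refine hsat x (ihN _ ?_)
      rwa [← mul_assoc, ← map_mul, ← pow_succ]
  exact hpow N f hN

section Linear

variable {n : ℕ}

/-- The Koszul relations. -/
noncomputable def kos (a : Fin n → A) : Ideal (MvPolynomial (Fin n) A) :=
  Ideal.span {q | ∃ i j : Fin n, q = C (a i) * X j - C (a j) * X i}

theorem mem_kos (a : Fin n → A) (i j : Fin n) : C (a i) * X j - C (a j) * X i ∈ kos a :=
  Ideal.subset_span ⟨i, j, rfl⟩

theorem eval_mem_pow (a : Fin n → A) {I : Ideal A} {d : ℕ} {h : MvPolynomial (Fin n) A} (hh : h.IsHomogeneous d)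
    (hc : ∀ m, coeff m h ∈ I) : eval a h ∈ I * Ideal.span (Set.range a) ^ d := by
  rw [eval_eq]
  refine Ideal.sum_mem _ fun m hm => Ideal.mul_mem_mul (hc m) ?_
  have hdeg : m.degree = d := by
    rw [← hh (mem_support_iff.1 hm), Finsupp.degree_eq_weight_one]
    rfl
  rw [← hdeg, Finsupp.degree_apply, ← Finset.prod_pow_eq_pow_sum]
  exact Ideal.prod_mem_prod fun i _ => Ideal.pow_mem_pow (show a i ∈ Ideal.span (Set.range a) from Ideal.subset_span ⟨i, rfl⟩) _

theorem exists_homogeneous_eval (a : Fin n → A) : ∀ (d : ℕ) {y : A}, y ∈ Ideal.span (Set.range a) ^ d →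
    ∃ h : MvPolynomial (Fin n) A, h.IsHomogeneous d ∧ eval a h = y := by
  intro d
  induction d with
  | zero => exact fun {y} _ => ⟨C y, isHomogeneous_C _ _, eval_C _⟩
  | succ d ih =>
    intro y hy
    rw [pow_succ] at hy
    refine Submodule.mul_induction_on hy (fun p hp q hq => ?_) fun p q hp hq => ?_
    · obtain ⟨h, hh, rfl⟩ := ih hp
      obtain ⟨c, rfl⟩ := Ideal.mem_span_range_iff_exists_fun.1 hq
      refine ⟨h * ∑ i, C (c i) * X i, hh.mul (IsHomogeneous.sum _ _ _ fun i _ => isHomogeneous_C_mul_X _ _), ?_⟩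
      simp
    · obtain ⟨h, hh, rfl⟩ := hp
      obtain ⟨h', hh', rfl⟩ := hq
      exact ⟨h + h', hh.add hh', map_add _ _ _⟩

theorem split_last {d : ℕ} {f : MvPolynomial (Fin (n + 1)) A} (hf : f.IsHomogeneous (d + 1)) :
    ∃ g f', g.IsHomogeneous d ∧ (f' : MvPolynomial (Fin n) A).IsHomogeneous (d + 1) ∧
      f = X (Fin.last n) * g + rename Fin.castSucc f' := by
  rw [f.as_sum]
  suffices h : ∀ m ∈ f.support, ∃ g f', g.IsHomogeneous d ∧ (f' : MvPolynomial (Fin n) A).IsHomogeneous (d + 1) ∧
      monomial m (coeff m f) = X (Fin.last n) * g + rename Fin.castSucc f' by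
    choose! g f' hg hf' he using h
    exact ⟨∑ m ∈ f.support, g m, ∑ m ∈ f.support, f' m, IsHomogeneous.sum _ _ _ hg, IsHomogeneous.sum _ _ _ hf', by
      rw [Finset.mul_sum, map_sum, ← Finset.sum_add_distrib, Finset.sum_congr rfl he]⟩
  intro m hm
  have hdeg : m.degree = d + 1 := by
    rw [← hf (mem_support_iff.1 hm), Finsupp.degree_eq_weight_one]
    rfl
  by_cases hl : m (Fin.last n) = 0
  · obtain ⟨g', hg'⟩ := exists_rename_eq_of_vars_subset_range (monomial m (coeff m f)) Fin.castSucc (Fin.castSucc_injective n)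
      (fun i hi => by
        simp only [Finset.mem_coe, mem_vars] at hi
        obtain ⟨m', hm', hi'⟩ := hi
        rw [Finset.mem_singleton.1 (support_monomial_subset hm')] at hi'
        obtain ⟨j, rfl⟩ | rfl := i.eq_castSucc_or_eq_last
        · exact ⟨j, rfl⟩
        · exact absurd hl (Finsupp.mem_support_iff.1 hi'))
    refine ⟨0, g', isHomogeneous_zero _ _ _, ?_, by rw [mul_zero, zero_add, hg']⟩
    rw [← IsHomogeneous.rename_isHomogeneous_iff (Fin.castSucc_injective n), hg']
    exact isHomogeneous_monomial _ hdeg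
  · have hle : Finsupp.single (Fin.last n) 1 ≤ m := Finsupp.single_le_iff.2 (Nat.one_le_iff_ne_zero.2 hl)
    refine ⟨monomial (m - Finsupp.single (Fin.last n) 1) (coeff m f), 0, isHomogeneous_monomial _ ?_, isHomogeneous_zero _ _ _, ?_⟩
    · have h1 := congrArg Finsupp.degree (add_tsub_cancel_of_le hle)
      rw [map_add, Finsupp.degree_single, hdeg] at h1
      omega
    · rw [map_zero, add_zero, X, monomial_mul, one_mul, add_tsub_cancel_of_le hle]

theorem exists_sum_X : ∀ {n : ℕ} {d : ℕ} {f : MvPolynomial (Fin n) A}, f.IsHomogeneous (d + 1) →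
    ∃ u : Fin n → MvPolynomial (Fin n) A, (∀ i, (u i).IsHomogeneous d) ∧ f = ∑ i, X i * u i := by
  intro n
  induction n with
  | zero =>
    intro d f hf
    refine ⟨fun i => i.elim0, fun i => i.elim0, ?_⟩
    ext m
    simp only [Finset.univ_eq_empty, Finset.sum_empty, coeff_zero]
    refine hf.coeff_eq_zero ?_
    rw [Subsingleton.elim m 0, map_zero]
    exact (Nat.succ_ne_zero d).symm
  | succ n ih =>
    intro d f hf
    obtain ⟨g, f', hg, hf', rfl⟩ := split_last hf
    obtain ⟨u, hu, rfl⟩ := ih hf'
    refine ⟨Fin.lastCases g fun i => rename Fin.castSucc (u i), fun i => ?_, ?_⟩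
    · cases i using Fin.lastCases with
      | last => simpa using hg
      | cast i => simpa using (hu i).rename_isHomogeneous
    · rw [map_sum]
      refine Eq.trans ?_ (Fin.sum_univ_castSucc _).symm
      simp [add_comm]

theorem kos_le_map (a : Fin n → A) : kos a ≤ (Ideal.span (Set.range a)).map C := by
  refine Ideal.span_le.2 ?_
  rintro _ ⟨i, j, rfl⟩
  exact Ideal.sub_mem _ (Ideal.mul_mem_right _ _ (Ideal.mem_map_of_mem _ (Ideal.subset_span ⟨i, rfl⟩)))
    (Ideal.mul_mem_right _ _ (Ideal.mem_map_of_mem _ (Ideal.subset_span ⟨j, rfl⟩)))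

theorem rename_kos (a : Fin (n + 1) → A) {x : MvPolynomial (Fin n) A} (hx : x ∈ kos (a ∘ Fin.castSucc)) :
    rename Fin.castSucc x ∈ kos a := by
  refine (show kos (a ∘ Fin.castSucc) ≤ (kos a).comap (rename Fin.castSucc).toRingHom from Ideal.span_le.2 ?_) hx
  rintro _ ⟨i, j, rfl⟩
  show rename Fin.castSucc _ ∈ kos a
  simp only [map_sub, map_mul, rename_C, rename_X, Function.comp_apply]
  exact mem_kos a _ _

/-- Homogeneous relations of a weakly regular sequence are generated by the Koszul ones. -/
theorem linearType : ∀ {n : ℕ} (a : Fin n → A), IsWeaklyRegular A (List.ofFn a) →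
    ∀ (d : ℕ) (f : MvPolynomial (Fin n) A), f.IsHomogeneous d → eval a f = 0 → f ∈ kos a := by
  intro n
  induction n with
  | zero =>
    intro a _ d f _ he
    obtain ⟨c, rfl⟩ : ∃ c, f = C c := ⟨coeff 0 f, eq_C_of_isEmpty f⟩
    rw [eval_C] at he
    rw [he, map_zero]
    exact zero_mem _
  | succ n ih =>
    intro a ha
    obtain ⟨ha', hlast⟩ := split_regular ha
    set a' := a ∘ Fin.castSucc
    set J := Ideal.span (Set.range a')
    have hpow : ∀ k y, a (Fin.last n) * y ∈ J ^ k → y ∈ J ^ k := by
      intro k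
      induction k with
      | zero => intro y _; simp
      | succ k ihk =>
        intro y hy
        obtain ⟨h, hh, rfl⟩ := exists_homogeneous_eval a' k (ihk y (Ideal.pow_le_pow_right (Nat.le_succ k) hy))
        obtain ⟨h', hh', he'⟩ := exists_homogeneous_eval a' (k + 1) hy
        obtain ⟨u, hu, rfl⟩ := exists_sum_X hh'
        let F := C (a (Fin.last n)) * h - ∑ i, C (a' i) * u i
        have hF : F ∈ kos a' := ih a' ha' k F (by
            rw [← mem_homogeneousSubmodule]
            refine Submodule.sub_mem _ ?_ (Submodule.sum_mem _ fun i _ => ?_) <;> rw [← smul_eq_C_mul] <;>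
              refine Submodule.smul_mem _ _ ?_ <;> rw [mem_homogeneousSubmodule]
            · exact hh
            · exact hu i) (by
            rw [map_sum] at he'
            simp only [map_mul, eval_X] at he'
            simp only [F, map_sub, map_mul, eval_C, map_sum, he', sub_self])
        have hF2 : C (a (Fin.last n)) * h ∈ J.map C := by
          have h1 := Ideal.add_mem _ (kos_le_map a' hF)
            (Ideal.sum_mem _ fun i (_ : i ∈ Finset.univ) => Ideal.mul_mem_right (u i) _ (Ideal.mem_map_of_mem C (Ideal.subset_span ⟨i, rfl⟩ : a' i ∈ J)))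
          simp only [F] at h1
          rwa [sub_add_cancel] at h1
        rw [pow_succ']
        refine eval_mem_pow a' hh fun m => hlast _ ?_
        have := mem_map_C_iff.1 hF2 m
        rwa [coeff_C_mul] at this
    intro d
    induction d with
    | zero =>
      intro f hf he
      obtain ⟨c, rfl⟩ : ∃ c, f = C c := ⟨coeff 0 f, totalDegree_eq_zero_iff_eq_C.1 (Nat.le_zero.1 hf.totalDegree_le)⟩
      rw [eval_C] at he
      rw [he, map_zero]
      exact zero_mem _
    | succ d ihd =>
      intro f hf he
      obtain ⟨g, f', hg, hf', rfl⟩ := split_last hf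
      rw [map_add, map_mul, eval_X, eval_rename] at he
      obtain ⟨w, hw, hwe⟩ := exists_homogeneous_eval a' (d + 1) (y := eval a g) (hpow _ _ (by
        rw [eq_neg_of_add_eq_zero_left he]
        refine (Ideal.neg_mem_iff _).2 ?_
        simpa using eval_mem_pow a' (I := ⊤) hf' (fun m => trivial)))
      obtain ⟨u, hu, rfl⟩ := exists_sum_X hw
      have h1 : f' + C (a (Fin.last n)) * ∑ i, X i * u i ∈ kos a' := ih a' ha' (d + 1) _ (hf'.add (by
        rw [← mem_homogeneousSubmodule, ← smul_eq_C_mul]
        exact Submodule.smul_mem _ _ hw)) (by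
        rw [map_add, map_mul, eval_C, hwe, add_comm]
        exact he)
      let G := g - ∑ i, C (a i.castSucc) * rename Fin.castSucc (u i)
      have h2 : G ∈ kos a := ihd G (by
          rw [← mem_homogeneousSubmodule]
          refine Submodule.sub_mem _ hg (Submodule.sum_mem _ fun i _ => ?_)
          rw [← smul_eq_C_mul]
          exact Submodule.smul_mem _ _ (hu i).rename_isHomogeneous) (by
          rw [map_sum] at hwe
          simp only [map_mul, eval_X] at hwe
          simp only [G, map_sub, map_sum, map_mul, eval_C, eval_rename, a', Function.comp_apply] at hwe ⊢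
          rw [hwe, sub_self])
      have h3 := Ideal.add_mem _ (Ideal.add_mem _ (rename_kos a h1) (Ideal.mul_mem_left _ (X (Fin.last n)) h2))
        (Ideal.sum_mem _ fun i (_ : i ∈ Finset.univ) =>
          Ideal.mul_mem_left _ (rename Fin.castSucc (u i)) (mem_kos a i.castSucc (Fin.last n)))
      convert h3 using 1
      have e1 : C (a (Fin.last n)) * rename Fin.castSucc (∑ i, X i * u i) =
          ∑ i, rename Fin.castSucc (u i) * (C (a (Fin.last n)) * X i.castSucc) := by
        rw [map_sum, Finset.mul_sum]
        exact Finset.sum_congr rfl fun i _ => by rw [map_mul, rename_X]; ring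
      have e2 : X (Fin.last n) * ∑ i, C (a i.castSucc) * rename Fin.castSucc (u i) =
          ∑ i, rename Fin.castSucc (u i) * (C (a i.castSucc) * X (Fin.last n)) := by
        rw [Finset.mul_sum]
        exact Finset.sum_congr rfl fun i _ => by ring
      simp only [G, map_add, map_mul, rename_C, mul_sub, Finset.sum_sub_distrib]
      rw [e1, e2]
      ring

theorem aeval_homogeneous (a : Fin n → A) {d : ℕ} {f : MvPolynomial (Fin n) A} (hf : f.IsHomogeneous d) :
    aeval (fun i => Polynomial.C (a i) * Polynomial.X) f = Polynomial.C (eval a f) * Polynomial.X ^ d := by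
  conv_lhs => rw [f.as_sum]
  conv_rhs => rw [f.as_sum]
  rw [map_sum, map_sum, map_sum, Finset.sum_mul]
  refine Finset.sum_congr rfl fun m hm => ?_
  have hdeg : m.degree = d := by
    rw [← hf (mem_support_iff.1 hm), Finsupp.degree_eq_weight_one]
    rfl
  rw [aeval_monomial, eval_monomial, map_mul, Finsupp.prod, Finsupp.prod, map_prod, Polynomial.algebraMap_eq, mul_assoc]
  congr 1
  simp only [mul_pow, Finset.prod_mul_distrib, map_pow, Finset.prod_pow_eq_pow_sum]
  rw [← hdeg, Finsupp.degree_apply]

/-- The Rees algebra of a weakly regular sequence. -/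
theorem ker_rees (a : Fin n → A) (ha : IsWeaklyRegular A (List.ofFn a)) :
    RingHom.ker (aeval (R := A) (fun i : Fin n => Polynomial.C (a i) * (Polynomial.X : Polynomial A))) = kos a := by
  refine le_antisymm (fun f hf => ?_) (Ideal.span_le.2 ?_)
  · rw [RingHom.mem_ker] at hf
    rw [← sum_homogeneousComponent f]
    refine Ideal.sum_mem _ fun d hd => linearType a ha d _ (homogeneousComponent_isHomogeneous d f) ?_
    have h1 := congrArg (fun p => Polynomial.coeff p d) hf
    rw [← sum_homogeneousComponent f, map_sum] at h1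
    simp only [fun e => aeval_homogeneous a (homogeneousComponent_isHomogeneous e f), Polynomial.finsetSum_coeff,
      Polynomial.coeff_C_mul_X_pow, Finset.sum_ite_eq, Polynomial.coeff_zero, if_pos hd] at h1
    exact h1
  · rintro _ ⟨i, j, rfl⟩
    rw [SetLike.mem_coe, RingHom.mem_ker]
    simp only [map_sub, map_mul, aeval_C, aeval_X, Polynomial.algebraMap_eq]
    ring

end Linear

end Groth.Agent.H4Rees
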